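import Cfsg.Agent.Blocks.PrincipalKernel
import Cfsg.Agent.Blocks.Deflate
import Cfsg.Agent.Blocks.BlockKer
import Cfsg.Agent.Blocks.CliffordCentral
import Cfsg.Agent.Lib.PSolvable
import Cfsg.Agent.Lib.Cores
import Cfsg.Agent.Characters.Core
import Cfsg.Agent.S0915
import Cfsg.Agent.S0941

/-!
# The principal block of a `p`-solvable group, and inflation (helper633)

* `inflate_mem`: inflations of characters in the principal block of `G ⧸ N` are in the principal block of `G`;
* `mem_principalBlock_iff_of_pSolvable`: for `G` `p`-solvable, the principal `p`-block consists of the irreducible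
  characters with `O_{p'}(G)` in the kernel;
* `eq_one_of_ker_top`, `top_of_forall_ker`: the trivial character is the only one with kernel `G`, and a normal
  subgroup `N` for which only the trivial character has `N` in its kernel is `G`.
-/

set_option autoImplicit false
open scoped ComplexConjugate
open Cfsg

namespace Cfsg.Agent.H633.Principal

variable {G : Type*} [Group G]

/-- The inflation of an irreducible character. -/
def infl (N : Subgroup G) [N.Normal] (χ : IrrCharacter (G ⧸ N)) : IrrCharacter G :=
  ⟨(χ : G ⧸ N → ℂ) ∘ (QuotientGroup.mk : G → G ⧸ N),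
    Blocks.CliffordCentral.isIrrCharacter_comp χ.2 (QuotientGroup.mk' N)
      (QuotientGroup.mk'_surjective N)⟩

theorem infl_apply (N : Subgroup G) [N.Normal] (χ : IrrCharacter (G ⧸ N)) (g : G) :
    (infl N χ : G → ℂ) g = (χ : G ⧸ N → ℂ) (g : G ⧸ N) := rfl

/-- Inflations of characters in the principal block of a quotient are in the principal block. -/
theorem inflate_mem {M : Ideal AlgInt} [M.IsPrime] (N : Subgroup G) [N.Normal]
    {χ : IrrCharacter (G ⧸ N)} (h : χ ∈ principalBlock M (G ⧸ N)) :
    infl N χ ∈ principalBlock M G := by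
  have h1 : SameBlock M (fun _ : G ⧸ N => (1 : ℂ)) (χ : G ⧸ N → ℂ) := h
  exact S0941.sameBlock_inflate N h1

/-- An irreducible character with `N` in its kernel is an inflation. -/
theorem exists_infl [Finite G] (N : Subgroup G) [N.Normal] (χ : IrrCharacter G)
    (h : ∀ n ∈ N, (χ : G → ℂ) n = (χ : G → ℂ) 1) :
    ∃ χ' : IrrCharacter (G ⧸ N), χ = infl N χ' := by
  classical
  have := Fintype.ofFinite N
  obtain ⟨χ', hχ'⟩ := Blocks.Deflate.exists_deflation N (χ : G → ℂ) χ.2 (by
    rw [Finset.sum_congr rfl (fun (n : N) _ => h (n : G) n.2), Finset.sum_const, nsmul_eq_mul]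
    refine mul_ne_zero ?_ (Blocks.Basic.irr_one_ne_zero χ.2)
    rw [Finset.card_univ]
    exact_mod_cast Fintype.card_ne_zero)
  exact ⟨χ', Subtype.ext hχ'⟩

/-- The principal block of a `p`-solvable group. -/
theorem mem_principalBlock_iff_of_pSolvable [Finite G] {p : ℕ} [Fact p.Prime] {M : Ideal AlgInt}
    (hM : IsPModular p M) (hG : IsPSolvable p G) (χ : IrrCharacter G) :
    χ ∈ principalBlock M G ↔ ∀ n ∈ pPrimeCore p G, (χ : G → ℂ) n = (χ : G → ℂ) 1 := by
  have hN : (pPrimeCore p G).Normal := Lib.Cores.pPrimeCore_normal p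
  have hcop := Lib.Cores.pPrimeCore_coprime (G := G) p
  have hMp : M.IsPrime := hM.2.1.isPrime
  have : Fintype G := Fintype.ofFinite G
  constructor
  · intro h n hn
    refine Blocks.PrincipalKernel.principalBlock_apply_eq hM (N := pPrimeCore p G) ?_ h hn
    rw [← (Fact.out : p.Prime).coprime_iff_not_dvd]
    exact hcop.symm
  · intro h
    obtain ⟨χ', rfl⟩ := exists_infl (pPrimeCore p G) χ h
    apply inflate_mem
    exact S0915.result p M hM
      (Lib.PSolvable.IsPSolvable_of_surjective p hG (QuotientGroup.mk' _)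
        (QuotientGroup.mk'_surjective _))
      (Lib.Cores.pPrimeCore_quotient_pPrimeCore p) ⟨_, Blocks.Basic.isIrrCharacter_one⟩ χ'

/-- If only the trivial character has `N` in its kernel, `N` is the whole group. -/
theorem top_of_forall_ker [Finite G] (N : Subgroup G) [N.Normal]
    (h : ∀ χ : IrrCharacter G, (∀ n ∈ N, (χ : G → ℂ) n = (χ : G → ℂ) 1) →
      (χ : G → ℂ) = fun _ => 1) : N = ⊤ := by
  classical
  have := Fintype.ofFinite G
  have : Finite (IrrCharacter G) := Characters.Core.finite_irr
  have := Fintype.ofFinite (IrrCharacter G)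
  have key := Blocks.PrincipalKernel.sum_sq_degrees N
  have h1 : Finset.univ.filter (fun χ : IrrCharacter G => ∀ n ∈ N, (χ : G → ℂ) n = (χ : G → ℂ) 1) =
      {⟨fun _ => 1, Blocks.Basic.isIrrCharacter_one⟩} := by
    ext χ
    simp only [Finset.mem_filter, Finset.mem_univ, true_and, Finset.mem_singleton]
    constructor
    · intro hχ
      exact Subtype.ext (h χ hχ)
    · rintro rfl n _
      rfl
  rw [h1, Finset.sum_singleton] at key
  have h2 : charDegree (fun _ : G => (1 : ℂ)) = 1 := by
    apply Blocks.Basic.charDegree_of_eq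
    simp
  have h3 : N.index = 1 := by
    rw [← key]
    show charDegree (fun _ : G => (1 : ℂ)) ^ 2 = 1
    rw [h2]; rfl
  exact Subgroup.index_eq_one.1 h3

/-- The trivial character is the only irreducible character with the whole group as kernel. -/
theorem eq_one_of_ker_top [Finite G] (χ : IrrCharacter G)
    (h : ∀ g, (χ : G → ℂ) g = (χ : G → ℂ) 1) : (χ : G → ℂ) = fun _ => 1 := by
  classical
  have := Fintype.ofFinite G
  have : Finite (IrrCharacter G) := Characters.Core.finite_irr
  have := Fintype.ofFinite (IrrCharacter G)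
  have key := Blocks.PrincipalKernel.sum_sq_degrees (⊤ : Subgroup G)
  rw [Subgroup.index_top] at key
  have hmem : ∀ ψ : IrrCharacter G, (∀ g, (ψ : G → ℂ) g = (ψ : G → ℂ) 1) →
      ψ ∈ Finset.univ.filter (fun χ : IrrCharacter G => ∀ n ∈ (⊤ : Subgroup G),
        (χ : G → ℂ) n = (χ : G → ℂ) 1) := by
    intro ψ hψ
    simp only [Finset.mem_filter, Finset.mem_univ, true_and]
    exact fun n _ => hψ n
  by_contra hne
  set o : IrrCharacter G := ⟨fun _ => 1, Blocks.Basic.isIrrCharacter_one⟩ with ho
  have hne' : χ ≠ o := fun he => hne (by rw [he])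
  have h2 : 2 ≤ ∑ χ ∈ Finset.univ.filter (fun χ : IrrCharacter G => ∀ n ∈ (⊤ : Subgroup G),
        (χ : G → ℂ) n = (χ : G → ℂ) 1), (charDegree (χ : G → ℂ)) ^ 2 := by
    calc 2 ≤ ∑ ψ ∈ ({χ, o} : Finset (IrrCharacter G)), (charDegree (ψ : G → ℂ)) ^ 2 := by
          rw [Finset.sum_pair hne']
          have a1 := pow_pos (Blocks.Basic.charDegree_pos χ.2) 2
          have a2 := pow_pos (Blocks.Basic.charDegree_pos o.2) 2
          omega
      _ ≤ _ := by
          refine Finset.sum_le_sum_of_subset ?_
          intro ψ hψ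
          rcases Finset.mem_insert.1 hψ with rfl | hψ
          · exact hmem _ h
          · rw [Finset.mem_singleton.1 hψ]
            exact hmem _ fun _ => rfl
  omega

end Cfsg.Agent.H633.Principal
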