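import Cfsg.Agent.H633.CentTwo
import Cfsg.Agent.OddHalf.Small.Plug
import Cfsg.Agent.QTNorm.SporM12
import Cfsg.Agent.OddHalf.Small.Mathieu
import Cfsg.Agent.OddHalf.Small.M24Char
import Cfsg.Agent.OddHalf.D4.Spor.J1Out
import Cfsg.Agent.KFacts.J2.Facts
import Cfsg.Agent.OddHalf.Small.J3
import Cfsg.Agent.QTNorm.SporJ4
import Cfsg.Agent.KFacts.Co1.InCo1
import Cfsg.Agent.SevenCases.SporCo2
import Cfsg.Agent.QTNorm.SporHS
import Cfsg.Agent.KFacts.SuzLarge
import Cfsg.Agent.H799.MTSyl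
import Cfsg.Agent.TypeM.FactsMcL
import Cfsg.Agent.QTNorm.SporRu
import Cfsg.Agent.KFacts.HN.Large
import Cfsg.Agent.SevenCases.SporTh
import Cfsg.Agent.EvenType.ChevTwoTits
import Cfsg.Agent.CTwoTab.FiTF
import Cfsg.Agent.TypeM.FactsLy
import Cfsg.Agent.KFacts.Baby.Inst
import Cfsg.Agent.CTwoTab.B
import Cfsg.Agent.CTwoTab.Monster
import Cfsg.Agent.CoOneType.ClosingCo1
import Cfsg.Agent.KFacts.ON.Aut
import Cfsg.Agent.KFacts.FiTTh.Has
import Cfsg.Agent.OddHalf.D8.Fi22.KAll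

/-!
# The centralizer of a Sylow 2-subgroup of a sporadic group is a 2-group: first rows (helper633)
-/

set_option autoImplicit false
open Cfsg

namespace Cfsg.Agent.H633.CentTwo

open Subgroup

universe u

/-- Involutions with a 2-subgroup normalized by `C(t)` and centralized by no element of odd order of `C(t)`. -/
theorem CT.of_good {K : Type u} [Group K] [Finite K] {t : K} (ht : orderOf t = 2) (h : OddHalf.Small.Crit.Good t) :
    CT K := by
  obtain ⟨Q, hQ, hn, hc⟩ := h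
  have h2 : IsPGroup 2 (zpowers t) := IsPGroup.of_card (n := 1) (by rw [Nat.card_zpowers, ht, pow_one])
  have hN : zpowers t ≤ normalizer (Q : Set K) := by
    rw [zpowers_le, mem_normalizer_iff]
    intro x
    constructor
    · intro hx
      exact hn t rfl x hx
    · intro hx
      have h1 := hn t⁻¹ (by group) _ hx
      have e : t⁻¹ * (t * x * t⁻¹) * t⁻¹⁻¹ = x := by group
      rwa [e] at h1
  have h3 : IsPGroup 2 (zpowers t ⊔ Q : Subgroup K) := IsPGroup.to_sup_of_normal_right' h2 hQ hN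
  refine CT.of_two _ h3 ?_
  intro x hx ho
  refine hc x ?_ ?_ ?_
  · exact (hx t (le_sup_left (a := zpowers t) (b := Q) (mem_zpowers t))).symm
  · intro y hy
    exact (hx y (le_sup_right (a := zpowers t) (b := Q) hy)).symm
  · rw [← Nat.not_even_iff_odd, even_iff_two_dvd]
    exact ho

theorem m11 {K : Type u} [Group K] [Finite K] (h : Spor.IsoM11 K) : CT K :=
  CT.of_charTwo (OddHalf.Small.M11.charTwo_of_iso h)

theorem m12 {K : Type u} [Group K] (h : Spor.IsoM12 K) : CT K :=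
  CT.of_selfN (QTNorm.selfN_m12 h)

theorem m22 {K : Type u} [Group K] [Finite K] (h : Spor.IsoM22 K) : CT K :=
  CT.of_charTwo (OddHalf.Small.Mathieu.m22 h)

theorem m23 {K : Type u} [Group K] [Finite K] (h : Spor.IsoM23 K) : CT K :=
  CT.of_charTwo (OddHalf.Small.Mathieu.m23 h)

theorem m24 {K : Type u} [Group K] [Finite K] (h : Spor.IsoM24 K) : CT K :=
  CT.of_charTwo (OddHalf.Small.M24Char.m24 h)

theorem j2 {K : Type u} [Group K] [Finite K] (h : Spor.IsoJ2 K) : CT K := by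
  obtain ⟨t, u, Q, v, ρ, D⟩ := KFacts.J2.Facts.exists_dat_of h
  exact CT.of_good (orderOf_eq_prime (by rw [pow_two]; exact D.tt) D.t_ne) (OddHalf.Small.J3.good D.M)

theorem j3 {K : Type u} [Group K] [Finite K] (h : Spor.IsoJ3 K) : CT K :=
  CT.of_charTwo (OddHalf.Small.J3.j3 K h)

theorem j4 {K : Type u} [Group K] (h : Spor.IsoJ4 K) : CT K :=
  CT.of_selfN (QTNorm.JFour.selfN_j4 h)

theorem co2 {K : Type u} [Group K] [Finite K] (h : Spor.IsoCo2 K) : CT K :=
  CT.of_charTwo (SevenCases.SporCo2.charTwo h)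

theorem hs {K : Type u} [Group K] (h : Spor.IsoHS K) : CT K :=
  CT.of_selfN (QTNorm.HSRow.selfN_hs h)

theorem he {K : Type u} [Group K] (h : Spor.IsoHe K) : CT K :=
  CT.of_selfN (QTNorm.selfN_he h)

theorem th {K : Type u} [Group K] [Finite K] (h : Spor.IsoTh K) : CT K :=
  CT.of_charTwo (SevenCases.SporTh.charTwo h)

theorem tits {K : Type u} [Group K] [Finite K] (h : Lie.IsoTits K) : CT K :=
  CT.of_charTwo (EvenType.ChevTwoTits.charTwo h)

theorem j1 {K : Type u} [Group K] [Finite K] (h : Spor.IsoJ1 K) : CT K := by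
  obtain ⟨e⟩ := h
  have hf : Finite Spor.J1 := Finite.of_equiv K e.toEquiv
  refine CT.congr e (CT.of_self OddHalf.D4.Spor.J1Out.EE
    (IsPGroup.of_card (n := 3) OddHalf.D4.Spor.J1Out.card_EE) ?_)
  intro x hx
  obtain ⟨i, hi⟩ := OddHalf.D4.Spor.J1Out.centE (g := x) (fun i => (hx _ ⟨i, rfl⟩).symm)
  exact ⟨i, hi.symm⟩

theorem co1 {K : Type u} [Group K] [Finite K] (h : Spor.IsoCo1 K) : CT K := by
  obtain ⟨e⟩ := h
  have hf : Finite Spor.Co1 := Finite.of_equiv K e.toEquiv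
  obtain ⟨o, ho⟩ := CoOneType.ClosingCo1.exists_octad
  exact CT.congr e (CT.of_large (KFacts.Co1.InCo1.large ho))

theorem suz {K : Type u} [Group K] [Finite K] (h : Spor.IsoSuz K) : CT K := by
  obtain ⟨e⟩ := h
  have hf : Finite Spor.Suz := Finite.of_equiv K e.toEquiv
  exact CT.congr e (CT.of_large KFacts.SuzLarge.large)

theorem hn {K : Type u} [Group K] [Finite K] (h : Spor.IsoHN K) : CT K := by
  obtain ⟨e⟩ := h
  have hf : Finite Spor.HN := Finite.of_equiv K e.toEquiv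
  exact CT.congr e (CT.of_large KFacts.HN.large)

theorem fi24' {K : Type u} [Group K] [Finite K] (h : Spor.IsoFi24' K) : CT K := by
  obtain ⟨e⟩ := h
  have hf : Finite Spor.Fi24' := Finite.of_equiv K e.toEquiv
  refine CT.congr e (CT.of_self CTwoTab.FiTF.R0 CTwoTab.FiTF.R0_p ?_)
  intro x hx
  rcases CTwoTab.FiTF.R0_cent x (fun r hr => (hx r hr).symm) with h | h
  · rw [h]; exact one_mem _
  · rw [h]; exact CTwoTab.FiTF.z0_mem

theorem mcl {K : Type u} [Group K] (h : Spor.IsoMcL K) : CT K := by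
  obtain ⟨hf, -, -, ⟨L⟩⟩ := TypeM.FactsMcL.facts h
  exact CT.of_selfN fun T => H799.MTSyl.normalizer_le (by norm_num) (by norm_num) L T

theorem ly {K : Type u} [Group K] [Finite K] (h : Spor.IsoLy K) : CT K := by
  obtain ⟨-, -, -, ⟨L⟩⟩ := TypeM.FactsLy.facts h
  exact CT.of_selfN fun T => H799.MTSyl.normalizer_le (by norm_num) (by norm_num) L T

theorem ru {K : Type u} [Group K] (h : Spor.IsoRu K) : CT K :=
  CT.of_selfN (QTNorm.RuRow.selfN_ru h)

section ON

open Cfsg.Spor (ON)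
open Cfsg.Agent.SporadicB.ON45Word (on)
open Cfsg.Agent.KFacts.ON.Struct (mem_K0)
open Cfsg.Agent.KFacts.ON.Cent (hON)
open Cfsg.Agent.ONType

theorem on' [Finite ON] : CT ON := by
  refine CT.of_self (TupS.S hON.1) (IsPGroup.of_card (n := 9) KFacts.ON.Qs.card_S) ?_
  intro x hx
  apply TupS.T0_le_S hON.1
  refine TupK.mem_T0 hON.1 (mem_K0.2 ?_) ?_
  · exact (hx _ (TupS.T0_le_S hON.1 (TupT0.f_mem hON.1))).symm
  · exact (hx _ (TupS.T0_le_S hON.1 (TupT0.a_mem hON.1))).symm

end ON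

theorem on {K : Type u} [Group K] [Finite K] (h : Spor.IsoON K) : CT K := by
  obtain ⟨e⟩ := h
  have hf : Finite Spor.ON := Finite.of_equiv K e.toEquiv
  exact CT.congr e on'

theorem fi23 {K : Type u} [Group K] [Finite K] (h : Spor.IsoFi23 K) : CT K := by
  obtain ⟨e⟩ := h
  have hf : Finite Spor.Fi23 := Finite.of_equiv K e.toEquiv
  obtain ⟨S, hS⟩ := KFacts.FiTTh.Has.sheet
  exact CT.congr e (CT.of_self _ (IsPGroup.of_card hS.cardA) fun x hx => hS.self x fun y hy => (hx y hy).symm)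

theorem fi22 {K : Type u} [Group K] [Finite K] (h : Spor.IsoFi22 K) : CT K := by
  obtain ⟨T, d, d', R, hR⟩ := OddHalf.D8.Fi22.exists_all h
  have F := hR.facts
  refine CT.of_self R F.R_two ?_
  intro c hc
  rcases F.R_center c (fun r hr => (hc r hr).symm) with rfl | rfl | rfl | rfl
  · exact one_mem _
  · exact F.d_mem
  · exact F.d'_mem
  · exact mul_mem F.d_mem F.d'_mem

theorem b {K : Type u} [Group K] [Finite K] (h : Spor.IsoB K) : CT K := by
  obtain ⟨e⟩ := KFacts.Baby.RowB.exists_iso h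
  have := Finite.of_equiv K e.symm.toEquiv
  exact CT.congr e.symm (CT.of_large (KFacts.Baby.Inst.large BabyU.ClosLane.A))

theorem m {K : Type u} [Group K] [Finite K] (h : Spor.IsoM K) : CT K := by
  obtain ⟨e⟩ := h
  obtain ⟨f⟩ := MonsterP.Equiv.equiv
  have A := MonsterU.Uncond.all
  have := Finite.of_equiv K (e.trans f).toEquiv
  exact CT.congr (e.trans f) (CT.of_large (MonsterU.ModelChart.large A.hG A.hR A.hL A.hO A.hT))

end Cfsg.Agent.H633.CentTwo
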