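import Cfsg.Agent.H43.Eleven.Local
import Cfsg.Agent.H478.RadJ4

/-!
# S3403: the row of the fourth Janko group (helper633)

Every element of order 11 of `J₄` commutes with an involution `t`; `C(t)` has a normal `11'`-subgroup with quotient
`Aut M₂₂`, so it has no normal subgroup of order 11 and no normal `PSL(2, 11)` or `J₁`: against `Loc P`.
-/

set_option autoImplicit false

namespace Cfsg.Agent.H633.ElJ4

open Subgroup Cfsg Cfsg.Agent.H43.Eleven Cfsg.Agent.H839.Rad

universe u v w

/-- no normal subgroup is `PSL(2, 11)` or `J₁` -/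
def NG (M : Type u) [Group M] : Prop := ∀ L : Subgroup M, L.Normal → ¬ Good ↥L

section NG

variable {M : Type u} [Group M]

/-- a surjection whose kernel has no element of order 11 -/
theorem NG.of_surj {A : Type v} [Group A] (f : M →* A) (hf : Function.Surjective f)
    (hk : ∀ x : M, f x = 1 → orderOf x ≠ 11) (h : NG A) : NG M := by
  intro L hL hG
  have hgf := hG.gf
  have hs := hgf.simple
  have hfin := hgf.fin
  have hN : (f.comp L.subtype).ker.Normal := inferInstance
  have hinj : Function.Injective (f.comp L.subtype) := by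
    rcases hN.eq_bot_or_eq_top with h0 | h0
    · exact (MonoidHom.ker_eq_bot_iff _).1 h0
    · exfalso
      have h11 : 11 ∣ Nat.card ↥L := by rcases hgf.card with h1 | h1 <;> rw [h1] <;> norm_num
      have : Fact (Nat.Prime 11) := ⟨by norm_num⟩
      obtain ⟨y, hy⟩ := exists_prime_orderOf_dvd_card' (G := ↥L) 11 h11
      refine hk y.1 ?_ (by rw [Subgroup.orderOf_coe, hy])
      have : y ∈ (f.comp L.subtype).ker := h0 ▸ mem_top y
      exact this
  have hr : (f.comp L.subtype).range = L.map f := by
    rw [MonoidHom.range_comp, range_subtype]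
  refine h (L.map f) (hL.map f hf) ?_
  exact hG.congr ((MonoidHom.ofInjective hinj).trans (MulEquiv.subgroupCongr hr))

theorem NG.congr {A : Type v} [Group A] (e : M ≃* A) (h : NG A) : NG M :=
  .of_surj e.toMonoidHom e.surjective (fun x hx => by
    have h1 : x = 1 := e.injective (hx.trans (map_one e).symm)
    rw [h1, orderOf_one]
    norm_num) h

/-- automorphism groups of simple groups of another order, with few outer automorphisms -/
theorem NG.aut {S : Type v} [Group S] [Finite S] [IsSimpleGroup S] {n : ℕ} (hc : Nat.card S = n)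
    (hle : Nat.card (MulAut S) < n * 660) (hcen : center S = ⊥) (h1 : n ≠ 660) (h2 : n ≠ 175560) :
    NG (MulAut S) := by
  intro L hL hG
  have hgf := hG.gf
  have hs := hgf.simple
  have hfin := hgf.fin
  have hinj := conj_injective hcen
  have hI := Cfsg.Agent.H478.RadTools.inn_normal S
  let e := MonoidHom.ofInjective hinj
  have hcI : Nat.card (MulAut.conj : S →* MulAut S).range = n := by rw [← Nat.card_congr e.toEquiv, hc]
  have hsI : IsSimpleGroup ↥(MulAut.conj : S →* MulAut S).range := MulEquiv.isSimpleGroup e.symm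
  have hnL : ((MulAut.conj : S →* MulAut S).range.subgroupOf L).Normal := inferInstance
  rcases hnL.eq_bot_or_eq_top with h0 | h0
  · -- trivial intersection
    have hi := (MulAut.conj : S →* MulAut S).range.card_mul_index
    rw [hcI] at hi
    have hi2 : (MulAut.conj : S →* MulAut S).range.index < 660 := by
      by_contra hcon
      have := Nat.mul_le_mul (le_refl n) (not_lt.1 hcon)
      omega
    have h3 : Nat.card ↥L ≤ (MulAut.conj : S →* MulAut S).range.index := by
      have h4 : (MulAut.conj : S →* MulAut S).range.relIndex L = Nat.card ↥L := by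
        rw [relIndex, h0, index_bot]
      rw [← h4]
      have h5 := relIndex_le_of_le_right (H := (MulAut.conj : S →* MulAut S).range) (le_top : L ≤ ⊤)
        (by rw [relIndex_top_right]; exact index_ne_zero_of_finite)
      rwa [relIndex_top_right] at h5
    rcases hgf.card with h4 | h4 <;> omega
  · -- `Inn ≥ L`
    have hle : L ≤ (MulAut.conj : S →* MulAut S).range := subgroupOf_eq_top.1 h0
    have hnI : (L.subgroupOf (MulAut.conj : S →* MulAut S).range).Normal := inferInstance
    rcases hnI.eq_bot_or_eq_top with h3 | h3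
    · rw [subgroupOf_eq_bot, disjoint_iff, inf_eq_left.2 hle] at h3
      have h4 : Nat.card ↥L = 1 := by rw [h3, card_bot]
      rcases hgf.card with h5 | h5 <;> omega
    · have h4 : L = (MulAut.conj : S →* MulAut S).range := le_antisymm hle (subgroupOf_eq_top.1 h3)
      have h5 : Nat.card ↥L = n := by rw [h4, hcI]
      rcases hgf.card with h6 | h6 <;> omega

end NG

/-- **a proper subgroup `M ≥ P`** -/
theorem false_of_proper {K : Type u} [Group K] [Finite K] {P : Subgroup K} (h : Cfg P) (hl : Loc P) {M : Subgroup K}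
    (hM : M ≠ ⊤) (hPM : P ≤ M) (hR : RadFree 11 ↥M) (hN : NG ↥M) : False := by
  rcases hl M hM hPM with h1 | ⟨L, h1, h2, h3, h4⟩
  · obtain ⟨x, hxP, hx, -⟩ := exists_gen h.card
    refine hR ⟨x, hPM hxP⟩ (by rw [Subgroup.orderOf_mk, hx]) ?_
    have hn : (P.subgroupOf M).Normal := (normal_subgroupOf_iff_le_normalizer hPM).2 h1
    have hs : Group.IsSolvable ↥(P.subgroupOf M) := by
      have : IsPGroup 11 ↥(P.subgroupOf M) := IsPGroup.of_card (n := 1) (by
        rw [Nat.card_congr (subgroupOfEquivOfLe hPM).toEquiv, h.card, pow_one])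
      have hf : Fact (Nat.Prime 11) := ⟨by norm_num⟩
      have := this.isNilpotent
      infer_instance
    exact le_sSup (show P.subgroupOf M ∈ {N : Subgroup ↥M | N.Normal ∧ Group.IsSolvable N} from ⟨hn, hs⟩)
      (mem_subgroupOf.2 hxP)
  · refine hN (L.subgroupOf M) ((normal_subgroupOf_iff_le_normalizer h1).2 h4) ?_
    exact h3.congr (subgroupOfEquivOfLe h1).symm

/-- a split extension -/
theorem NG.split {G : Type u} [Group G] [Finite G] {C V K : Subgroup G} (hV : V ≤ C)
    (hK : K ≤ C) (hn : C ≤ normalizer (V : Set G)) (hi : K ⊓ V = ⊥) (hs : K ⊔ V = C)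
    (hVp : ¬ 11 ∣ Nat.card ↥V) (h : NG ↥K) : NG ↥C := by
  have hN : (V.subgroupOf C).Normal := normal_subgroupOf_iff_le_normalizer hV |>.2 hn
  let f : ↥K →* ↥C ⧸ V.subgroupOf C := (QuotientGroup.mk' _).comp (inclusion hK)
  have hf : Function.Bijective f := by
    constructor
    · rw [injective_iff_map_eq_one]
      intro k hk
      have h1 : inclusion hK k ∈ V.subgroupOf C := (QuotientGroup.eq_one_iff _).1 hk
      have h2 : (k : G) ∈ K ⊓ V := mem_inf.2 ⟨k.2, mem_subgroupOf.1 h1⟩
      rw [hi, mem_bot] at h2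
      exact Subtype.ext h2
    · intro q
      obtain ⟨c, rfl⟩ := QuotientGroup.mk'_surjective _ q
      have hc : (c : G) ∈ K ⊔ V := hs ▸ c.2
      rw [← SetLike.mem_coe, coe_mul_of_left_le_normalizer_right K V (hK.trans hn)] at hc
      obtain ⟨k, hk, v, hv, hkv⟩ := hc
      refine ⟨⟨k, hk⟩, ?_⟩
      show (QuotientGroup.mk (inclusion hK ⟨k, hk⟩) : ↥C ⧸ V.subgroupOf C) = QuotientGroup.mk c
      rw [QuotientGroup.eq, mem_subgroupOf]
      have h3 : k⁻¹ * (c : G) = v := by
        rw [← hkv]
        simp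
      show k⁻¹ * (c : G) ∈ V
      rw [h3]
      exact hv
  refine .of_surj (QuotientGroup.mk' (V.subgroupOf C)) (QuotientGroup.mk'_surjective _) ?_
    (NG.congr (MulEquiv.ofBijective f hf).symm h)
  intro x hx ho
  have h1 : x ∈ V.subgroupOf C := (QuotientGroup.eq_one_iff _).1 hx
  have h2 : (x : G) ∈ V := mem_subgroupOf.1 h1
  apply hVp
  rw [← ho, ← Subgroup.orderOf_coe, ← Subgroup.orderOf_mk _ h2]
  exact orderOf_dvd_natCard _

theorem ng_autM22 : NG (MulAut ↥Spor.M22) := by
  have hc := Cfsg.Agent.SporadicA.MathieuRecog.card_M22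
  have hs : IsSimpleGroup Spor.M22 := Cfsg.Agent.SporadicA.MathieuRecog.simple_M22
  have hf : Finite Spor.M22 := Nat.finite_of_card_ne_zero (by rw [hc]; decide)
  have hle := Cfsg.Agent.OddHalf.Table.OutMTwentyTwo.card_le
  exact NG.aut hc (by omega) (Cfsg.Agent.H478.RadTools.center_eq_bot (by rw [hc]; norm_num)) (by norm_num)
    (by norm_num)

variable {K : Type u} [Group K] [Finite K]

/-- the centralizer of a 2-central involution -/
theorem ng_z {z : K} (h : IsOfJankoFourTypeAt z) : NG ↥(centralizer ({z} : Set K)) := by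
  obtain ⟨P, -, -, hQ, -, ⟨N, -, -, -, hN, ⟨hn, ⟨e⟩⟩, -⟩, -⟩ := h
  refine .of_surj (e.toMonoidHom.comp (QuotientGroup.mk' _))
    (e.surjective.comp (QuotientGroup.mk'_surjective _)) ?_ ng_autM22
  intro x hx ho
  have h0 : (QuotientGroup.mk' (N.subgroupOf (centralizer ({z} : Set K)))) x = 1 :=
    e.injective (hx.trans (map_one e).symm)
  have h1 : x ∈ N.subgroupOf (centralizer ({z} : Set K)) := (QuotientGroup.eq_one_iff _).1 h0
  have h2 : (x : K) ∈ N := mem_subgroupOf.1 h1
  have h3 : 11 ∣ Nat.card ↥N := by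
    rw [← ho, ← Subgroup.orderOf_coe, ← Subgroup.orderOf_mk _ h2]
    exact orderOf_dvd_natCard _
  rw [hN, hQ] at h3
  omega

/-- the centralizers of the involutions -/
theorem ng_invol [IsSimpleGroup K] (hG : ¬ IsMulCommutative K) {z : K} (h : IsOfJankoFourTypeAt z) {t : K}
    (ht : orderOf t = 2) : NG ↥(centralizer ({t} : Set K)) := by
  by_cases hzt : IsConj z t
  · obtain ⟨g, hg⟩ := isConj_iff.1 hzt
    have h1 : (centralizer ({z} : Set K)).map (MulAut.conj g).toMonoidHom = centralizer ({t} : Set K) := by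
      ext y
      constructor
      · rintro ⟨x, hx, rfl⟩
        have hx' := mem_centralizer_singleton_iff.1 hx
        rw [mem_centralizer_singleton_iff]
        show g * x * g⁻¹ * t = t * (g * x * g⁻¹)
        rw [← hg]
        calc g * x * g⁻¹ * (g * z * g⁻¹) = g * (x * z) * g⁻¹ := by group
          _ = g * z * g⁻¹ * (g * x * g⁻¹) := by rw [hx']; group
      · intro hy
        have hy' := mem_centralizer_singleton_iff.1 hy
        rw [← hg] at hy'
        refine ⟨g⁻¹ * y * g, mem_centralizer_singleton_iff.2 ?_, ?_⟩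
        · calc g⁻¹ * y * g * z = g⁻¹ * (y * (g * z * g⁻¹)) * g := by group
            _ = z * (g⁻¹ * y * g) := by rw [hy']; group
        · show g * (g⁻¹ * y * g) * g⁻¹ = y
          group
    rw [← h1]
    exact NG.congr ((centralizer ({z} : Set K)).equivMapOfInjective
      (MulAut.conj g).toMonoidHom (MulAut.conj g).injective).symm (ng_z h)
  · obtain ⟨V, L, hV, hL, hn, -, hc, hi, hs, ⟨e⟩⟩ := Cfsg.Agent.S5569.result hG z h t ht hzt
    refine NG.split hV hL hn hi hs ?_ (NG.congr e ng_autM22)
    rw [hc]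
    norm_num

/-- **The row of `J₄`.** -/
theorem row_J4 {X : Type u} [Group X] (h : Cfsg.Spor.IsoJ4 X) : Row X := by
  obtain ⟨e⟩ := h
  refine row_congr e ?_
  have hfin : Finite Spor.J4 := Cfsg.Agent.H859.SylEleven.finite_J4
  have hs : IsSimpleGroup Spor.J4 := Cfsg.Agent.S1703.result.1
  obtain ⟨z, hz⟩ := Cfsg.Agent.H337.isOfJankoFourType_of_isoJ4 (G := Spor.J4) ⟨MulEquiv.refl _⟩
  have hcen : center Spor.J4 = ⊥ := Cfsg.Agent.H478.RadTools.center_eq_bot (by
    rw [Cfsg.Agent.S1703.result.2]; norm_num)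
  have hG : ¬ IsMulCommutative Spor.J4 := by
    intro hm
    have h2 : (⊤ : Subgroup Spor.J4) ≤ center Spor.J4 := fun x _ => mem_center_iff.2 fun y => hm.1.1 y x
    rw [hcen, le_bot_iff] at h2
    exact absurd h2 top_ne_bot
  intro _ P hP hl
  exfalso
  obtain ⟨x, hxP, hx, hPx⟩ := exists_gen hP.card
  obtain ⟨t, ht, hxt⟩ := Cfsg.Agent.H478.RadJ4.exists_invol hx
  refine false_of_proper hP hl (M := centralizer ({t} : Set Spor.J4)) ?_ ?_
    (Cfsg.Agent.H478.RadJ4.radFree_invol hG hz ht) (ng_invol hG hz ht)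
  · intro h1
    have h2 : t ∈ center Spor.J4 := by
      rw [mem_center_iff]
      intro g
      exact mem_centralizer_singleton_iff.1 (h1 ▸ mem_top g)
    rw [hcen, mem_bot] at h2
    rw [h2, orderOf_one] at ht
    omega
  · rw [hPx, zpowers_le]
    exact mem_centralizer_singleton_iff.2 hxt

end Cfsg.Agent.H633.ElJ4
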