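import Cfsg.Agent.H386.Factor
import Cfsg.Agent.Lib.SylowNormalInf
import Cfsg.Agent.Lib.PSolvable
import Cfsg.Agent.H633.Unique

/-!
# Principal blocks meeting trivially: reduction to simple groups (helper633)

* `Good r S`: no nontrivial automorphism of `S` of order prime to `r` centralizes a Sylow `r`-subgroup;
* `isPGroup_centralizer`: `N` a minimal normal subgroup of `G` with `C_G(N) = 1`, `T` a simple factor of `N` with `Good r T`,
  `r ∣ |T|`: the centralizer of a Sylow `r`-subgroup of `G` is an `r`-group;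
* `Hyp p M G`: the principal `p`-block meets the other principal blocks trivially; `Hyp.quotient`; `pSolvable_of_hyp`.
-/

set_option autoImplicit false
open Cfsg
open scoped Pointwise

namespace Cfsg.Agent.H633.Struct

open Subgroup Cfsg.Agent.H386.Factor

universe u

/-- No nontrivial automorphism of order prime to `r` centralizes a Sylow `r`-subgroup. -/
def Good (r : ℕ) (S : Type*) [Group S] : Prop :=
  ∀ (R : Sylow r S) (φ : MulAut S), ¬ r ∣ orderOf φ → (∀ x ∈ (R : Subgroup S), φ x = x) → φ = 1

section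

variable {G : Type u} [Group G] [Finite G]

theorem exists_sylow_factor {N T : Subgroup G} [N.Normal] (hTN : T ≤ N)
    (hn : ∀ n ∈ N, ∀ t ∈ T, n * t * n⁻¹ ∈ T) {r : ℕ} [Fact r.Prime] (R : Sylow r G) :
    ∃ R' : Sylow r T, (R' : Subgroup T) = (R : Subgroup G).subgroupOf T := by
  have h1 : ¬ r ∣ ((R : Subgroup G).subgroupOf N).index := Lib.SylowNormalInf.not_dvd_relIndex R N
  have h2 : IsPGroup r ((R : Subgroup G).subgroupOf N) :=
    R.2.comap_of_injective N.subtype N.subtype_injective
  have hTn : (T.subgroupOf N).Normal := ⟨fun t ht n => hn n n.2 t ht⟩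
  have h3 : ¬ r ∣ ((R : Subgroup G).subgroupOf N).relIndex (T.subgroupOf N) :=
    Lib.SylowNormalInf.not_dvd_relIndex (h2.toSylow h1) (T.subgroupOf N)
  have h4 : ((R : Subgroup G).subgroupOf N).relIndex (T.subgroupOf N) = (R : Subgroup G).relIndex T := by
    rw [← inf_relIndex_right, ← inf_relIndex_right (R : Subgroup G) T]
    have e1 : ((R : Subgroup G).subgroupOf N ⊓ T.subgroupOf N) = ((R : Subgroup G) ⊓ T).subgroupOf N := rfl
    rw [e1]
    exact relIndex_subgroupOf hTN
  rw [h4] at h3
  exact ⟨(R.2.comap_of_injective T.subtype T.subtype_injective).toSylow h3, rfl⟩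

/-- An element of order prime to `r` centralizing a Sylow `r`-subgroup centralizes the factors. -/
theorem cent_factor {N T : Subgroup G} [N.Normal] (hF : IsFactor N T) {r : ℕ} [Fact r.Prime]
    (hr : r ∣ Nat.card T) (hg : Good r T) (R : Sylow r G) {x : G}
    (hx : x ∈ centralizer ((R : Subgroup G) : Set G)) (hxr : ¬ r ∣ orderOf x) :
    ∀ t ∈ T, x * t = t * x := by
  obtain ⟨R', hR'⟩ := exists_sylow_factor hF.le hF.norm R
  have hfix : ∀ y ∈ (R' : Subgroup T), x * (y : G) * x⁻¹ = y := by
    intro y hy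
    rw [hR', mem_subgroupOf] at hy
    rw [← mem_centralizer_iff.1 hx y hy]
    group
  rcases hF.conj x with h | h
  · set f : T →* T := ((MulAut.conj x).toMonoidHom.comp T.subtype).codRestrict T
      (fun t => by simpa using h t t.2) with hf
    have hfv : ∀ t : T, ((f t : T) : G) = x * t * x⁻¹ := fun t => rfl
    have hinj : Function.Injective f := by
      intro a b hab
      apply Subtype.ext
      have h1 := congrArg (Subtype.val) hab
      rw [hfv, hfv] at h1
      exact mul_left_cancel (mul_right_cancel h1)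
    set φ : MulAut T := MulEquiv.ofBijective f ⟨hinj, Finite.injective_iff_surjective.1 hinj⟩ with hφ
    have hφv : ∀ t : T, ((φ t : T) : G) = x * t * x⁻¹ := fun t => rfl
    have hφn : ∀ (n : ℕ) (t : T), (((φ ^ n) t : T) : G) = x ^ n * t * (x ^ n)⁻¹ := by
      intro n
      induction n with
      | zero => intro t; simp
      | succ n ih =>
        intro t
        rw [pow_succ', MulAut.mul_apply, hφv, ih, pow_succ']
        group
    have hord : orderOf φ ∣ orderOf x := by
      apply orderOf_dvd_of_pow_eq_one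
      apply MulEquiv.ext
      intro t
      apply Subtype.ext
      rw [hφn, pow_orderOf_eq_one]
      simp
    have h1 : φ = 1 := hg R' φ (fun hd => hxr (hd.trans hord)) (fun y hy => Subtype.ext (hfix y hy))
    intro t ht
    have h2 := congrArg (fun ψ : MulAut T => ((ψ ⟨t, ht⟩ : T) : G)) h1
    simp only [hφv, MulAut.one_apply] at h2
    calc x * t = (x * t * x⁻¹) * x := by group
      _ = t * x := by rw [h2]
  · exfalso
    obtain ⟨y, hy⟩ := exists_prime_orderOf_dvd_card' (G := (R' : Subgroup T)) r (by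
      have h1 := R'.card_eq_multiplicity
      rw [h1]
      have h2 : 0 < (Nat.card T).factorization r :=
        (Fact.out : r.Prime).factorization_pos_of_dvd Nat.card_pos.ne' hr
      exact dvd_pow_self r h2.ne')
    have hy1 : ((y : T) : G) ≠ 1 := by
      intro h1
      have h2 : y = 1 := Subtype.ext (Subtype.ext h1)
      rw [h2, orderOf_one] at hy
      exact (Fact.out : r.Prime).one_lt.ne hy
    apply hy1
    apply hF.centerless _ (y : T).2
    intro t ht
    have h1 := h t ht ((y : T) : G) (y : T).2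
    rw [hfix (y : T) y.2] at h1
    exact h1.symm

theorem isPGroup_of_forall {r : ℕ} [Fact r.Prime] {C : Subgroup G}
    (h : ∀ x ∈ C, ¬ r ∣ orderOf x → x = 1) : IsPGroup r C := by
  intro y
  obtain ⟨k, m, hm, hk⟩ := Nat.exists_eq_pow_mul_and_not_dvd (orderOf_pos (y : G)).ne' r
    (Fact.out : r.Prime).one_lt.ne'
  refine ⟨k, Subtype.ext (h ((y : G) ^ r ^ k) (C.pow_mem y.2 _) ?_)⟩
  rw [orderOf_pow_of_dvd (pow_ne_zero _ (Fact.out : r.Prime).ne_zero) (by rw [hk]; exact dvd_mul_right _ _), hk,
    Nat.mul_div_cancel_left _ (pow_pos (Fact.out : r.Prime).pos _)]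
  exact hm

/-- The centralizer of a Sylow `r`-subgroup is an `r`-group if `Good r` holds for the factors of a self-centralizing
minimal normal subgroup. -/
theorem isPGroup_centralizer {N T : Subgroup G} [N.Normal] (hF : IsFactor N T)
    (hCN : centralizer (N : Set G) = ⊥) {r : ℕ} [Fact r.Prime]
    (hr : r ∣ Nat.card T) (hg : Good r T) (R : Sylow r G) :
    IsPGroup r (centralizer ((R : Subgroup G) : Set G)) := by
  apply isPGroup_of_forall
  intro x hx hxr
  have h1 : N ≤ centralizer ({x} : Set G) := by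
    apply hF.gen
    intro g t ht
    rw [mem_centralizer_singleton_iff]
    have h2 : (g⁻¹ * x * g) ∈ centralizer (((g⁻¹ • R : Sylow r G) : Subgroup G) : Set G) := by
      rw [mem_centralizer_iff]
      intro y hy
      have hy' : y ∈ (g⁻¹ • R : Sylow r G) := hy
      rw [Sylow.smul_def] at hy'
      have h3 : g * y * g⁻¹ ∈ (R : Subgroup G) := by
        have h4 : y ∈ MulAut.conj g⁻¹ • (R : Subgroup G) := hy'
        rw [mem_pointwise_smul_iff_inv_smul_mem] at h4
        simpa using h4
      have h5 := mem_centralizer_iff.1 hx _ h3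
      calc y * (g⁻¹ * x * g) = g⁻¹ * ((g * y * g⁻¹) * x) * g := by group
        _ = g⁻¹ * (x * (g * y * g⁻¹)) * g := by rw [h5]
        _ = g⁻¹ * x * g * y := by group
    have h3 : ¬ r ∣ orderOf (g⁻¹ * x * g) := by
      have h4 : orderOf (g⁻¹ * x * g) = orderOf x := by
        have h5 := orderOf_injective (MulAut.conj g⁻¹).toMonoidHom (MulAut.conj g⁻¹).injective x
        simpa using h5
      rwa [h4]
    have h4 := cent_factor hF hr hg (g⁻¹ • R) h2 h3 t ht
    calc g * t * g⁻¹ * x = g * (t * (g⁻¹ * x * g)) * g⁻¹ := by group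
      _ = g * ((g⁻¹ * x * g) * t) * g⁻¹ := by rw [h4]
      _ = x * (g * t * g⁻¹) := by group
  have h2 : x ∈ centralizer (N : Set G) := by
    rw [mem_centralizer_iff]
    intro n hn
    exact mem_centralizer_singleton_iff.1 (h1 hn)
  rw [hCN] at h2
  exact h2

end

/-- The principal `p`-block meets the other principal blocks trivially. -/
def Hyp (p : ℕ) (M : ℕ → Ideal AlgInt) (G : Type u) [Group G] : Prop :=
  ∀ q : ℕ, q.Prime → q ≠ p → q ∣ Nat.card G →
    ∀ χ : IrrCharacter G, χ ∈ principalBlock (M p) G → χ ∈ principalBlock (M q) G → (χ : G → ℂ) = fun _ => 1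

theorem Hyp.quotient {p : ℕ} [Fact p.Prime] {M : ℕ → Ideal AlgInt} (hM : ∀ r : ℕ, r.Prime → IsPModular r (M r))
    {G : Type u} [Group G] [Finite G] (h : Hyp p M G) (N : Subgroup G) [N.Normal] : Hyp p M (G ⧸ N) := by
  intro q hq hqp hqd χ h1 h2
  have hp1 : (M p).IsPrime := (hM p Fact.out).2.1.isPrime
  have hq1 : (M q).IsPrime := (hM q hq).2.1.isPrime
  have h3 := h q hq hqp (hqd.trans (Subgroup.card_quotient_dvd_card N)) (Principal.infl N χ)
    (Principal.inflate_mem N h1) (Principal.inflate_mem N h2)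
  funext g
  obtain ⟨g, rfl⟩ := QuotientGroup.mk_surjective g
  exact congrFun h3 g

/-- The statement on simple groups. -/
def SimpleGood : Prop :=
  ∀ (X : Type u) [Group X] [Finite X] [IsSimpleGroup X], ¬ IsMulCommutative X →
    ∃ r : ℕ, r.Prime ∧ r ∣ Nat.card X ∧ Good r X

theorem pSolvable_of_coprime {p : ℕ} [Fact p.Prime] {G : Type u} [Group G] [Finite G]
    (h : (Nat.card G).Coprime p) : IsPSolvable p G := by
  refine Lib.PSolvable.IsPSolvable_of_quotient p ⊤ (Or.inr ?_) ?_
  · rwa [Subgroup.card_top]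
  · have : Subsingleton (G ⧸ (⊤ : Subgroup G)) := QuotientGroup.subsingleton_quotient_top
    exact Lib.PSolvable.IsPSolvable_of_solvable p

theorem pSolvable_of_isPGroup {p : ℕ} [Fact p.Prime] {G : Type u} [Group G] [Finite G] {k : ℕ}
    (h : Nat.card G = p ^ k) : IsPSolvable p G := by
  refine Lib.PSolvable.IsPSolvable_of_quotient p ⊤ (Or.inl ⟨k, ?_⟩) ?_
  · rwa [Subgroup.card_top]
  · have : Subsingleton (G ⧸ (⊤ : Subgroup G)) := QuotientGroup.subsingleton_quotient_top
    exact Lib.PSolvable.IsPSolvable_of_solvable p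

theorem pSolvable_of_hyp (hS : SimpleGood.{u}) {p : ℕ} [Fact p.Prime] {M : ℕ → Ideal AlgInt}
    (hM : ∀ r : ℕ, r.Prime → IsPModular r (M r)) :
    ∀ (n : ℕ) (G : Type u) [Group G] [Finite G], Nat.card G = n → Hyp p M G → IsPSolvable p G := by
  intro n
  induction n using Nat.strong_induction_on with
  | _ n ih =>
  intro G _ _ hn hH
  subst hn
  have hquo : ∀ (N : Subgroup G) [N.Normal], N ≠ ⊥ → IsPSolvable p (G ⧸ N) := by
    intro N hN hN0
    refine ih (Nat.card (G ⧸ N)) ?_ (G ⧸ N) rfl (hH.quotient hM N)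
    have h1 := Subgroup.card_eq_card_quotient_mul_card_subgroup N
    have h2 : 1 < Nat.card N := (Subgroup.one_lt_card_iff_ne_bot N).2 hN0
    have h3 : 0 < Nat.card (G ⧸ N) := Nat.card_pos
    rw [h1]
    exact lt_mul_of_one_lt_right h3 h2
  rcases subsingleton_or_nontrivial G with hG | hG
  · exact Lib.PSolvable.IsPSolvable_of_solvable p
  obtain ⟨N, hN, hN0, hmin⟩ := exists_min_normal (G := G)
  by_cases hNs : IsPSolvable p N
  · exact Lib.PSolvable.IsPSolvable_of_extension p N hNs (hquo N hN0)
  exfalso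
  have hna : ¬ ∀ x ∈ N, ∀ y ∈ N, Commute x y := by
    intro hc
    apply hNs
    let _ : CommGroup N :=
      { (inferInstance : Group N) with mul_comm := fun a b => Subtype.ext (hc a a.2 b b.2) }
    have : Group.IsSolvable N := inferInstance
    exact Lib.PSolvable.IsPSolvable_of_solvable p
  obtain ⟨T, hF⟩ := exists_factor N hmin hna
  have hCN : centralizer (N : Set G) = ⊥ := by
    by_contra hC
    apply hNs
    have h1 := hquo (centralizer (N : Set G)) hC
    refine Lib.PSolvable.IsPSolvable_of_injective p h1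
      ((QuotientGroup.mk' (centralizer (N : Set G))).comp N.subtype) ?_
    rw [← MonoidHom.ker_eq_bot_iff, eq_bot_iff]
    intro x hx
    rw [MonoidHom.mem_ker, MonoidHom.comp_apply, QuotientGroup.mk'_apply, QuotientGroup.eq_one_iff] at hx
    have h2 : N ⊓ centralizer (N : Set G) = ⊥ := by
      refine eq_bot_of_abelian hmin hna hF inf_le_left ?_ ?_
      · intro n hn k hk
        refine ⟨hN.conj_mem k hk.1 n, ?_⟩
        exact (inferInstance : (centralizer (N : Set G)).Normal).conj_mem k hk.2 n
      · intro a ha b hb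
        exact (mem_centralizer_iff.1 hb.2 a ha.1)
    have h3 : (x : G) ∈ N ⊓ centralizer (N : Set G) := ⟨x.2, hx⟩
    rw [h2, mem_bot] at h3
    rw [mem_bot]
    exact Subtype.ext h3
  have hTs : IsSimpleGroup T := by
    have hnt : Nontrivial T := (Subgroup.nontrivial_iff_ne_bot T).2 hF.ne_bot
    refine ⟨fun K hK => ?_⟩
    rcases hF.simple (K.map T.subtype) (map_subtype_le K) (by
      rintro t ht _ ⟨k, hk, rfl⟩
      exact ⟨⟨t, ht⟩ * k * ⟨t, ht⟩⁻¹, hK.conj_mem k hk _, rfl⟩) with h | h
    · left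
      exact (map_eq_bot_iff_of_injective K T.subtype_injective).1 h
    · right
      rw [eq_top_iff]
      intro t _
      have h1 : (t : G) ∈ K.map T.subtype := by rw [h]; exact t.2
      obtain ⟨k, hk, hkt⟩ := h1
      have : k = t := Subtype.ext hkt
      rwa [← this]
  have hTc : ¬ IsMulCommutative T := by
    intro hc
    obtain ⟨t, ht, ht1⟩ := (Subgroup.ne_bot_iff_exists_ne_one.1 hF.ne_bot : ∃ a : T, a ≠ 1) |>.elim
      (fun a ha => (⟨a, a.2, fun h => ha (Subtype.ext h)⟩ : ∃ t : G, t ∈ T ∧ t ≠ 1))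
    apply ht1
    apply hF.centerless t ht
    intro s hs
    exact congrArg Subtype.val (hc.is_comm.comm (⟨t, ht⟩ : T) ⟨s, hs⟩)
  obtain ⟨r, hr, hrd, hgood⟩ := hS T hTc
  have hrf : Fact r.Prime := ⟨hr⟩
  have hTd : Nat.card T ∣ Nat.card G := Subgroup.card_subgroup_dvd_card T
  have hNd : Nat.card N ∣ Nat.card G := Subgroup.card_subgroup_dvd_card N
  have hpN : p ∣ Nat.card N := by
    by_contra hpN
    apply hNs
    apply pSolvable_of_coprime
    exact ((Nat.Prime.coprime_iff_not_dvd Fact.out).2 hpN).symm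
  have hpG : p ∣ Nat.card G := hpN.trans hNd
  by_cases hrp : r = p
  · obtain ⟨q, hq, hqp, hqN⟩ : ∃ q : ℕ, q.Prime ∧ q ≠ p ∧ q ∣ Nat.card N := by
      by_contra hcon
      push Not at hcon
      apply hNs
      have h1 := Nat.eq_prime_pow_of_unique_prime_dvd (p := p) (n := Nat.card N) Nat.card_pos.ne'
        (fun {d} hd hdN => by
          by_contra hne
          exact hcon d hd hne hdN)
      exact pSolvable_of_isPGroup h1
    have hqf : Fact q.Prime := ⟨hq⟩
    subst hrp
    obtain ⟨R⟩ : Nonempty (Sylow r G) := inferInstance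
    obtain ⟨χ, h1, h2, h3⟩ := Unique.exists_common (hM q hq) (hM r hr) (hqN.trans hNd) R
      (isPGroup_centralizer hF hCN hrd hgood R)
    exact h3 (hH q hq hqp (hqN.trans hNd) χ h2 h1)
  · obtain ⟨R⟩ : Nonempty (Sylow r G) := inferInstance
    obtain ⟨χ, h1, h2, h3⟩ := Unique.exists_common (hM p Fact.out) (hM r hr) hpG R
      (isPGroup_centralizer hF hCN hrd hgood R)
    exact h3 (hH r hr hrp (hrd.trans hTd) χ h1 h2)

end Cfsg.Agent.H633.Struct
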