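import Cfsg.Agent.H633.CentSporB
import Cfsg.Agent.H633.Struct
import Cfsg.Agent.H505.OddInn
import Cfsg.Agent.H94.Matching
import Cfsg.Agent.Omega.KFactsZS
import Cfsg.Agent.S0254
import Cfsg.Agent.PreUniq.Cases

/-!
# Each known nonabelian simple group is good for some prime (helper633)

`Good r X` : a Sylow `r`-subgroup of `X` is centralized by no automorphism `≠ 1` of order prime to `r`. We take `r = 2`
for the alternating groups of degree `≥ 7`, the sporadic groups and the Tits group, and the characteristic for the groups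
of Lie type.
-/

set_option autoImplicit false
open Cfsg

namespace Cfsg.Agent.H633.SimpleGood

open Subgroup Cfsg.Agent.H633.Struct Cfsg.Agent.H633.CentTwo

universe u

variable {X : Type u} [Group X]

theorem center_eq_bot [IsSimpleGroup X] (hna : ¬ IsMulCommutative X) : center X = ⊥ := by
  rcases (inferInstance : (center X).Normal).eq_bot_or_eq_top with h | h
  · exact h
  · exact absurd ⟨⟨fun a b => (mem_center_iff.1 (by rw [h]; exact mem_top b) a)⟩⟩ hna

/-- Groups with inner automorphisms of odd prime order. -/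
theorem good_of_ct [Finite X] (h : CT X) (ho : BpSpor.Inn.OddInn X) : Good 2 X := by
  intro R φ h2 hfix
  by_contra hne
  have h1 : orderOf φ ≠ 1 := fun h => hne (orderOf_eq_one_iff.1 h)
  obtain ⟨q, hq, hqd⟩ := Nat.exists_prime_and_dvd h1
  have hq2 : q ≠ 2 := by rintro rfl; exact h2 hqd
  have hpos : 0 < orderOf φ := orderOf_pos φ
  have hord : orderOf (φ ^ (orderOf φ / q)) = q := orderOf_pow_orderOf_div hpos.ne' hqd
  obtain ⟨g, hg⟩ := ho q hq hq2 _ hord
  have hfix' : ∀ (n : ℕ) (x : X), x ∈ R → (φ ^ n) x = x := by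
    intro n
    induction n with
    | zero => intro x _; rfl
    | succ n ih =>
      intro x hx
      rw [pow_succ, MulAut.mul_apply, hfix x hx]
      exact ih x hx
  have hgR : g ∈ centralizer ((R : Subgroup X) : Set X) := by
    rw [mem_centralizer_iff]
    intro y hy
    have h3 := hfix' (orderOf φ / q) y hy
    rw [hg, MulAut.conj_apply, mul_inv_eq_iff_eq_mul] at h3
    exact h3.symm
  obtain ⟨k, hk⟩ := h R ⟨g, hgR⟩
  have hk' : g ^ 2 ^ k = 1 := congrArg Subtype.val hk
  have h4 : q ∣ 2 ^ k := by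
    rw [← hord, hg]
    apply orderOf_dvd_of_pow_eq_one
    rw [← map_pow, hk', map_one]
  exact hq2 ((Nat.prime_dvd_prime_iff_eq hq Nat.prime_two).1 (hq.dvd_of_dvd_pow h4))

theorem two_dvd [Finite X] [IsSimpleGroup X] (hna : ¬ IsMulCommutative X) (h : CT X) : 2 ∣ Nat.card X := by
  by_contra h2
  have hf : Fact (Nat.Prime 2) := ⟨Nat.prime_two⟩
  obtain ⟨T⟩ : Nonempty (Sylow 2 X) := inferInstance
  have h1 : (T : Subgroup X) = ⊥ := by
    rw [← Subgroup.card_eq_one, T.card_eq_multiplicity, Nat.factorization_eq_zero_of_not_dvd h2, pow_zero]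
  apply hna
  refine ⟨⟨fun a b => ?_⟩⟩
  have h3 : a = 1 := by
    refine eq_one_of_isPGroup (h T) ?_ (fun h4 => h2 (h4.trans (orderOf_dvd_natCard a)))
    rw [mem_centralizer_iff]
    intro y hy
    have h5 : y ∈ (⊥ : Subgroup X) := by rw [← h1]; exact hy
    rw [mem_bot.1 h5, one_mul, mul_one]
  rw [h3, one_mul, mul_one]

theorem of_ct [Finite X] [IsSimpleGroup X] (hna : ¬ IsMulCommutative X) (h : CT X) (ho : BpSpor.Inn.OddInn X) :
    ∃ r : ℕ, r.Prime ∧ r ∣ Nat.card X ∧ Good r X :=
  ⟨2, Nat.prime_two, two_dvd hna h, good_of_ct h ho⟩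

theorem of_lieType [Finite X] [IsSimpleGroup X] (hna : ¬ IsMulCommutative X) {r : ℕ} (hr : r.Prime)
    (h : IsLieTypeChar r X) : ∃ r : ℕ, r.Prime ∧ r ∣ Nat.card X ∧ Good r X := by
  have hf : Fact r.Prime := ⟨hr⟩
  refine ⟨r, hr, ?_, fun R φ h1 h2 => S4613.result r h φ h1 R h2⟩
  by_contra h2
  obtain ⟨T⟩ : Nonempty (Sylow r X) := inferInstance
  have h1 : (T : Subgroup X) = ⊥ := by
    rw [← Subgroup.card_eq_one, T.card_eq_multiplicity, Nat.factorization_eq_zero_of_not_dvd h2, pow_zero]
  apply hna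
  refine ⟨⟨fun a b => ?_⟩⟩
  have h3 : MulAut.conj a = 1 := by
    refine S4613.result r h (MulAut.conj a) ?_ T ?_
    · intro h4
      exact h2 (h4.trans ((orderOf_map_dvd MulAut.conj a).trans (orderOf_dvd_natCard a)))
    · intro y hy
      rw [h1, mem_bot] at hy
      rw [hy, map_one]
  have h4 := congrArg (fun f : MulAut X => f b) h3
  simp only [MulAut.conj_apply, MulAut.one_apply] at h4
  exact mul_inv_eq_iff_eq_mul.1 h4

theorem alt_six {n : ℕ} (hn : n = 6) (e : X ≃* alternatingGroup (Fin n)) : IsLieTypeChar 3 X := by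
  subst hn
  have h3 : Fact (Nat.Prime 3) := ⟨Nat.prime_three⟩
  let _ : Fintype (GaloisField 3 2) := Fintype.ofFinite _
  have hc : Fintype.card (GaloisField 3 2) = 9 := by
    rw [← Nat.card_eq_fintype_card, GaloisField.card 3 2 (by norm_num)]
    norm_num
  obtain ⟨f⟩ := S0254.result hc
  exact Or.inl ⟨GaloisField 3 2, inferInstance, inferInstance, inferInstance, 2, le_rfl, fun _ => by rw [hc]; norm_num,
    ⟨e.trans f.symm⟩⟩

/-- **Each known nonabelian simple group is good for some prime dividing its order.** -/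
theorem exists_good [Finite X] [IsSimpleGroup X] (hna : ¬ IsMulCommutative X) (hK : IsKnownSimple' X) :
    ∃ r : ℕ, r.Prime ∧ r ∣ Nat.card X ∧ Good r X := by
  rcases PreUniq.known_cases hK with h | h | h | h | h
  · exfalso
    apply hna
    have : Fact (Nat.card X).Prime := ⟨h⟩
    have : IsCyclic X := isCyclic_of_prime_card rfl
    infer_instance
  · obtain ⟨n, hn, ⟨e⟩⟩ := h
    rcases Nat.lt_or_ge n 7 with h7 | h7
    · rcases (by omega : n = 5 ∨ n = 6) with rfl | h6
      · exact of_lieType hna Nat.prime_two (Omega.KFacts.charTwo_alt_five e)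
      · exact of_lieType hna Nat.prime_three (alt_six h6 e)
    · refine of_ct hna ?_ (BpSpor.Inn.OddInn.congr e (H505.OddInn.oddInn_alt hn (by omega)))
      have hfin := Finite.of_equiv X e.toEquiv
      refine CT.congr e (CT.of_selfN fun T => H94.Syl2Sym.alt_selfNorm (by rw [Fintype.card_fin]; omega) T)
  · obtain ⟨r, hr, h⟩ := h
    exact of_lieType hna hr h
  · exact of_ct hna (tits h) (H505.OddInn.oddInn_tits h)
  · exact of_ct hna (spor h) (H505.OddInn.oddInn_sporadic h)

end Cfsg.Agent.H633.SimpleGood
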