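import Cfsg.Agent.H633.TwoIdx
import Cfsg.Agent.H489.OutSpor

/-!
# S4897: the second row of a sporadic group (helper633)
-/

set_option autoImplicit false

namespace Cfsg.Agent.H633.TwoIdx

open Cfsg Cfsg.Agent.H504.Zeros Cfsg.Agent.H504.TwoZ

universe u

/-- the same for sporadic groups -/
theorem row2_of_sporadic {S : Type u} [Group S] [Finite S] [DecidableEq S]
    (h : IsSporadicGroup S) (t : Finset S)
    (ht : NonConj t) (ht3 : 3 ≤ t.card) (hinv : ∀ x ∈ t, ∀ φ : MulAut S, IsConj x (φ x))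
    (s : Finset S) (hs : NonConj s) (hs3 : 3 ≤ s.card) (f : S → ℕ) (hf : ∀ g ∈ s, nv g ≤ f g)
    {k : ℕ} (hk : k ≤ Nat.card (ConjClasses S))
    (hfull : ∑ g ∈ s, f g < (s.card - 2) * (k - 2) + 2)
    (her : ∀ x ∈ s, (∃ y ∈ s, y ≠ x ∧ orderOf y = orderOf x) →
      ∑ g ∈ s.erase x, f g < (s.card - 3) * (k - 2) + 2) : Row2 S :=
  row2_of_out_le_two (H489.card_out_sporadic h) t ht ht3 hinv s hs hs3 f hf hk hfull her

end Cfsg.Agent.H633.TwoIdx
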